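import Groth.Agent.Lib.GenFree.Presentation
import Groth.Agent.Lib.NilFree.Basic
import Groth.Agent.Lib.Approx6.ModuleRing
import Mathlib.RingTheory.Noetherian.Nilpotent

/-!
# Principal stratifications with free strata for flat modules
-/

set_option autoImplicit false
set_option linter.style.haveILetI false
universe u

open TensorProduct

namespace GrothLib.FreeStrat3

/-- A flat module, free modulo a nilpotent ideal, is free. -/
theorem free_of_nilpotent {R M : Type u} [CommRing R] [AddCommGroup M] [Module R M] [Module.Flat R M]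
    (J : Ideal R) (hJ : IsNilpotent J) [Module.Free (R ⧸ J) ((R ⧸ J) ⊗[R] M)] : Module.Free R M :=
  GrothLib.NilFree.free_of_family J hJ (fun _ : PUnit.{u + 1} => R) (fun _ h => h PUnit.unit)
    (fun _ => Module.Flat.of_linearEquiv (TensorProduct.lid R M))

/-- Freeness passes to further base changes. -/
theorem free_of_tower {R : Type u} [CommRing R] (R' Q : Type u) [CommRing R'] [Algebra R R'] [CommRing Q]
    [Algebra R Q] [Algebra R' Q] [IsScalarTower R R' Q] (M : Type u) [AddCommGroup M] [Module R M]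
    [Module.Free R' (R' ⊗[R] M)] : Module.Free Q (Q ⊗[R] M) :=
  Module.Free.of_equiv (AlgebraTensorModule.cancelBaseChange R R' Q Q M)

/-- Freeness after a base change of base changes. -/
theorem free_cancel {R : Type u} [CommRing R] (R' Q : Type u) [CommRing R'] [Algebra R R'] [CommRing Q]
    [Algebra R Q] [Algebra R' Q] [IsScalarTower R R' Q] (M : Type u) [AddCommGroup M] [Module R M]
    [Module.Free Q (Q ⊗[R'] (R' ⊗[R] M))] : Module.Free Q (Q ⊗[R] M) :=
  Module.Free.of_equiv (AlgebraTensorModule.cancelBaseChange R R' Q Q M)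

/-- The converse of `free_cancel`. -/
theorem free_uncancel {R : Type u} [CommRing R] (R' Q : Type u) [CommRing R'] [Algebra R R'] [CommRing Q]
    [Algebra R Q] [Algebra R' Q] [IsScalarTower R R' Q] (M : Type u) [AddCommGroup M] [Module R M]
    [Module.Free Q (Q ⊗[R] M)] : Module.Free Q (Q ⊗[R'] (R' ⊗[R] M)) :=
  Module.Free.of_equiv (AlgebraTensorModule.cancelBaseChange R R' Q Q M).symm

/-- Free after inverting `f` and killing `I`, in the form stable under base change. -/
def FreeStratum {R : Type u} [CommRing R] (M : Type u) [AddCommGroup M] [Module R M] (I : Ideal R) (f : R) :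
    Prop :=
  ∀ (Q : Type u) [CommRing Q] [Algebra R Q], IsUnit (algebraMap R Q f) →
    (∀ a ∈ I, algebraMap R Q a = 0) → Module.Free Q (Q ⊗[R] M)

/-- Generic freeness over the reduction, lifted by flatness. -/
theorem exists_free_near_minimalPrime {R B : Type u} [CommRing R] [IsNoetherianRing R] [CommRing B]
    [Algebra R B] [Algebra.FiniteType R B] (M : Type u) [AddCommGroup M] [Module B M] [Module R M]
    [IsScalarTower R B M] [Module.Finite B M] [Module.Flat R M] (P : Ideal R) (hP : P ∈ minimalPrimes R) :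
    ∃ f ∉ P, FreeStratum M ⊥ f := by
  classical
  let N := nilradical R
  let R' := R ⧸ N
  haveI : IsReduced R' := (Ideal.isRadical_iff_quotient_reduced N).1 (Ideal.radical_isRadical ⊥)
  have hfin := minimalPrimes.finite_of_isNoetherianRing R
  have hPp : P.IsPrime := hP.1.1
  -- an element in the other minimal primes
  obtain ⟨g, hg, hgP⟩ : ∃ g : R, (∀ P' ∈ minimalPrimes R, P' ≠ P → g ∈ P') ∧ g ∉ P := by
    let S := hfin.toFinset.erase P
    have : ¬ (S.inf id ≤ P) := fun h => by
      obtain ⟨P', hP', hle⟩ := hPp.inf_le'.1 h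
      obtain ⟨hne, hmem⟩ := Finset.mem_erase.1 hP'
      rw [Set.Finite.mem_toFinset] at hmem
      exact hne (le_antisymm hle (hP.2 hmem.1 hle))
    obtain ⟨g, hg, hgP⟩ := SetLike.not_le_iff_exists.1 this
    exact ⟨g, fun P' h hne => (Finset.inf_le (s := S) (f := id) (by simp [S, h, hne])) hg, hgP⟩
  let B' := R' ⊗[R] B
  letI : Algebra B B' := Algebra.TensorProduct.rightAlgebra
  let M' := B' ⊗[B] M
  let eM : M' ≃ₗ[R'] R' ⊗[R] M := Algebra.IsPushout.cancelBaseChange R R' B B' M
  have hg0 : Ideal.Quotient.mk N g ≠ 0 := fun h => hgP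
    (nilradical_le_prime P (Ideal.Quotient.eq_zero_iff_mem.1 h))
  obtain ⟨f', hgf, hf0, hfree⟩ := GrothLib.GenFree.gf_of_finiteType (R := R') B' M' _ hg0
  obtain ⟨f, rfl⟩ := Ideal.Quotient.mk_surjective f'
  have hfP : f ∉ P := fun hfP => hf0 (Ideal.Quotient.eq_zero_iff_mem.2 (by
    obtain ⟨c, hc⟩ := hgf
    obtain ⟨c, rfl⟩ := Ideal.Quotient.mk_surjective c
    show f ∈ nilradical R
    rw [nilradical_eq_sInf, Submodule.mem_sInf]
    intro P'' hP''
    haveI : Ideal.IsPrime P'' := hP''
    obtain ⟨P', hP', hle⟩ := Ideal.exists_minimalPrimes_le (I := ⊥) (J := P'') bot_le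
    haveI : P'.IsPrime := hP'.1.1
    refine hle ?_
    by_cases hne : P' = P
    · exact hne ▸ hfP
    · rw [← map_mul, Ideal.Quotient.eq] at hc
      have := add_mem (nilradical_le_prime P' hc) (P'.mul_mem_right c (hg P' hP' hne))
      rwa [sub_add_cancel] at this))
  refine ⟨f, hfP, fun Q _ _ hQ _ => ?_⟩
  let Rf := Localization.Away f
  let J : Ideal Rf := N.map (algebraMap R Rf)
  have hJ : IsNilpotent J := by
    obtain ⟨n, hn⟩ := (Ideal.FG.isNilpotent_iff_le_nilradical (IsNoetherian.noetherian N)).2 le_rfl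
    exact ⟨n, by rw [← Ideal.map_pow, hn]; exact Ideal.map_bot⟩
  letI : Algebra R' (Rf ⧸ J) := (Ideal.Quotient.lift N (algebraMap R (Rf ⧸ J)) fun a ha =>
    Ideal.Quotient.eq_zero_iff_mem.2 (Ideal.mem_map_of_mem _ ha)).toAlgebra
  haveI : IsScalarTower R R' (Rf ⧸ J) := IsScalarTower.of_algebraMap_eq fun _ => rfl
  let R'f := Localization.Away (Ideal.Quotient.mk N f)
  haveI : Module.Free R'f (R'f ⊗[R'] M') := hfree.free_tensor R'f
  haveI : Module.Free R'f (R'f ⊗[R'] (R' ⊗[R] M)) :=
    Module.Free.of_equiv (eM.baseChange R' R'f M' (R' ⊗[R] M))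
  letI : Algebra R'f (Rf ⧸ J) := (IsLocalization.Away.lift (Ideal.Quotient.mk N f)
    (g := algebraMap R' (Rf ⧸ J)) (by
      show IsUnit (Ideal.Quotient.mk J (algebraMap R Rf f))
      exact (IsLocalization.Away.algebraMap_isUnit f).map _)).toAlgebra
  haveI : IsScalarTower R' R'f (Rf ⧸ J) := IsScalarTower.of_algebraMap_eq fun x =>
    (IsLocalization.Away.lift_eq _ _ x).symm
  haveI : Module.Free (Rf ⧸ J) ((Rf ⧸ J) ⊗[R'] (R' ⊗[R] M)) := free_of_tower R'f (Rf ⧸ J) _
  haveI : Module.Free (Rf ⧸ J) ((Rf ⧸ J) ⊗[R] M) := free_cancel R' (Rf ⧸ J) M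
  haveI : Module.Free (Rf ⧸ J) ((Rf ⧸ J) ⊗[Rf] (Rf ⊗[R] M)) := free_uncancel Rf (Rf ⧸ J) M
  haveI : Module.Free Rf (Rf ⊗[R] M) := free_of_nilpotent J hJ
  letI : Algebra Rf Q := (IsLocalization.Away.lift f (g := algebraMap R Q) hQ).toAlgebra
  haveI : IsScalarTower R Rf Q := IsScalarTower.of_algebraMap_eq fun x =>
    (IsLocalization.Away.lift_eq _ _ x).symm
  exact free_of_tower Rf Q M

/-- A list refining a closed subset into free strata. -/
def Strat {R : Type u} [CommRing R] (M : Type u) [AddCommGroup M] [Module R M] : Ideal R → List R → Prop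
  | I, [] => I = ⊤
  | I, f :: l => FreeStratum M I f ∧ Strat M (I ⊔ Ideal.span {f}) l

theorem Strat.spec {R : Type u} [CommRing R] {M : Type u} [AddCommGroup M] [Module R M] :
    ∀ (l : List R) (I : Ideal R), Strat M I l → I ⊔ Ideal.span {a | a ∈ l} = ⊤ ∧
      ∀ (i : ℕ) (hi : i < l.length), FreeStratum M (I ⊔ Ideal.span {a | a ∈ l.take i}) l[i]
  | [], I, h => ⟨by rw [show I = ⊤ from h, top_sup_eq], fun i hi => by simp at hi⟩
  | f :: l, I, h => by
    obtain ⟨h₁, h₂⟩ := Strat.spec l _ h.2
    have hcons : ∀ s : List R, Ideal.span {a | a ∈ f :: s} = Ideal.span {f} ⊔ Ideal.span {a | a ∈ s} :=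
      fun s => by
        rw [← Ideal.span_union]
        congr 1
        ext a
        simp
    refine ⟨by rw [hcons, ← sup_assoc, h₁], fun i hi => ?_⟩
    cases i with
    | zero =>
      intro Q _ _ hu hz
      exact h.1 Q hu fun a ha => hz a (Submodule.mem_sup_left ha)
    | succ j =>
      rw [List.take_succ_cons, hcons, ← sup_assoc, List.getElem_cons_succ]
      exact h₂ j (by simpa using hi)

/-- Every closed subset of a Noetherian affine scheme has a stratification with free strata. -/
theorem exists_strat {R B : Type u} [CommRing R] [IsNoetherianRing R] [CommRing B] [Algebra R B]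
    [Algebra.FiniteType R B] (M : Type u) [AddCommGroup M] [Module B M] [Module R M] [IsScalarTower R B M]
    [Module.Finite B M] [Module.Flat R M] (I : Ideal R) : ∃ l : List R, Strat M I l := by
  induction I using IsNoetherian.induction with
  | hgt I IH =>
    by_cases hI : I = ⊤
    · exact ⟨[], hI⟩
    let R' := R ⧸ I
    haveI : Nontrivial R' := Ideal.Quotient.nontrivial_iff.2 hI
    obtain ⟨P, hP⟩ : (minimalPrimes R').Nonempty :=
      Set.nonempty_coe_sort.1 (Ideal.nonempty_minimalPrimes bot_ne_top)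
    let B' := R' ⊗[R] B
    letI : Algebra B B' := Algebra.TensorProduct.rightAlgebra
    let M' := B' ⊗[B] M
    let eM : M' ≃ₗ[R'] R' ⊗[R] M := Algebra.IsPushout.cancelBaseChange R R' B B' M
    haveI : Module.Flat R' M' := Module.Flat.of_linearEquiv eM
    obtain ⟨f', hfP, hfree⟩ := exists_free_near_minimalPrime (B := B') M' P hP
    obtain ⟨f, rfl⟩ := Ideal.Quotient.mk_surjective f'
    have hfI : f ∉ I := fun h => hfP (by
      rw [Ideal.Quotient.eq_zero_iff_mem.2 h]
      exact zero_mem _)
    obtain ⟨l, hl⟩ := IH (I ⊔ Ideal.span {f}) (lt_of_le_of_ne le_sup_left fun h => hfI (by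
      rw [h]
      exact Submodule.mem_sup_right (Ideal.mem_span_singleton_self f)))
    refine ⟨f :: l, fun Q _ _ hu hz => ?_, hl⟩
    letI : Algebra R' Q := (Ideal.Quotient.lift I (algebraMap R Q) hz).toAlgebra
    haveI : IsScalarTower R R' Q := IsScalarTower.of_algebraMap_eq fun _ => rfl
    haveI : Module.Free Q (Q ⊗[R'] M') := hfree Q hu fun a ha => by
      rw [(Submodule.mem_bot R').1 ha, map_zero]
    haveI : Module.Free Q (Q ⊗[R'] (R' ⊗[R] M)) :=
      Module.Free.of_equiv (eM.baseChange R' Q M' (R' ⊗[R] M))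
    exact free_cancel R' Q M

/-- A finite list generating the unit ideal with free strata. -/
theorem exists_stratification {A B : Type u} [CommRing A] [CommRing B] [Algebra A B]
    [Algebra.FinitePresentation A B] (M : Type u) [AddCommGroup M] [Module B M] [Module A M]
    [IsScalarTower A B M] [Module.FinitePresentation B M] [Module.Flat A M] :
    ∃ l : List A, Ideal.span {a | a ∈ l} = ⊤ ∧
      ∀ (i : ℕ) (hi : i < l.length), FreeStratum M (Ideal.span {a | a ∈ l.take i}) l[i] := by
  obtain ⟨A₀, _, _, B₀, _, _, e, M₀, _, _, _, _, hA₀, hB₀, hM₀, hflat, ⟨eM⟩⟩ :=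
    GrothLib.Approx6.exists_flat_module_model A B M
  letI algB : Algebra B₀ B :=
    (e.toRingEquiv.toRingHom.comp Algebra.TensorProduct.includeRight.toRingHom).toAlgebra
  letI : Algebra A₀ B := ((algebraMap A B).comp (algebraMap A₀ A)).toAlgebra
  haveI : IsScalarTower A₀ A B := IsScalarTower.of_algebraMap_eq fun _ => rfl
  haveI : IsScalarTower A₀ B₀ B := IsScalarTower.of_algebraMap_eq fun x => by
    show algebraMap A B (algebraMap A₀ A x) = e (1 ⊗ₜ algebraMap A₀ B₀ x)
    rw [← e.commutes]
    congr 1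
    exact ((Algebra.TensorProduct.includeRight : B₀ →ₐ[A₀] A ⊗[A₀] B₀).commutes x).symm
  haveI : Algebra.IsPushout A₀ A B₀ B := by
    refine ⟨IsBaseChange.of_equiv e.toLinearEquiv fun x => ?_⟩
    rfl
  let eA : A ⊗[A₀] M₀ ≃ₗ[A] M :=
    (Algebra.IsPushout.cancelBaseChange A₀ A B₀ B M₀).symm.trans (eM.restrictScalars A)
  haveI : IsNoetherianRing A₀ := Algebra.FiniteType.isNoetherianRing ℤ A₀
  obtain ⟨l, hl⟩ := exists_strat (B := B₀) M₀ (⊥ : Ideal A₀)
  obtain ⟨h₁, h₂⟩ := Strat.spec l ⊥ hl
  refine ⟨l.map (algebraMap A₀ A), ?_, fun i hi Q _ _ hu hz => ?_⟩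
  · rw [bot_sup_eq] at h₁
    have := congrArg (Ideal.map (algebraMap A₀ A)) h₁
    rw [Ideal.map_span, Ideal.map_top] at this
    refine Eq.trans ?_ this
    congr 1
    ext a
    simp
  · rw [List.length_map] at hi
    rw [List.getElem_map] at hu
    letI : Algebra A₀ Q := ((algebraMap A Q).comp (algebraMap A₀ A)).toAlgebra
    haveI : IsScalarTower A₀ A Q := IsScalarTower.of_algebraMap_eq fun _ => rfl
    haveI : Module.Free Q (Q ⊗[A₀] M₀) := h₂ i hi Q hu fun a ha => by
      rw [bot_sup_eq] at ha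
      have : a ∈ RingHom.ker (algebraMap A₀ Q) := by
        refine (Ideal.span_le.2 fun x hx => ?_) ha
        rw [SetLike.mem_coe, RingHom.mem_ker]
        refine hz (algebraMap A₀ A x) (Ideal.subset_span ?_)
        show algebraMap A₀ A x ∈ (l.map (algebraMap A₀ A)).take i
        rw [← List.map_take]
        exact List.mem_map_of_mem hx
      exact this
    haveI : Module.Free Q (Q ⊗[A] (A ⊗[A₀] M₀)) := free_uncancel A Q M₀
    exact Module.Free.of_equiv (eA.baseChange A Q (A ⊗[A₀] M₀) M)

end GrothLib.FreeStrat3
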