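import Groth.Agent.Lib.FreeStrat3.Core
import Groth.Agent.Lib.FlatLimit.Global

/-!
# Free localizations of modules flat at the minimal prime
-/

set_option autoImplicit false
set_option linter.style.haveILetI false
universe u

open TensorProduct

namespace GrothLib.FreeStrat3

theorem exists_principal_stratification {A B : Type u} [CommRing A] [CommRing B] [Algebra A B]
    [Algebra.FinitePresentation A B] (M : Type u) [AddCommGroup M] [Module B M] [Module A M] [IsScalarTower A B M]
    [Module.FinitePresentation B M] [Module.Flat A M] :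
    ∃ l : List A, Ideal.span {a | a ∈ l} = ⊤ ∧
      ∀ (i : ℕ) (hi : i < l.length),
        letI J : Ideal (Localization.Away l[i]) :=
          (Ideal.span {a | a ∈ l.take i}).map (algebraMap A (Localization.Away l[i]))
        Module.Free (Localization.Away l[i] ⧸ J) ((Localization.Away l[i] ⧸ J) ⊗[A] M) := by
  obtain ⟨l, hl, h⟩ := exists_stratification (A := A) (B := B) M
  refine ⟨l, hl, fun i hi => h i hi _ ?_ fun a ha => ?_⟩
  · exact (IsLocalization.Away.algebraMap_isUnit l[i]).map (Ideal.Quotient.mk _)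
  · exact Ideal.Quotient.eq_zero_iff_mem.2 (Ideal.mem_map_of_mem _ ha)

variable {A : Type u} [CommRing A] (p : Ideal A) [p.IsPrime]

/-- The localizations at a single element outside `p`. -/
abbrev Stage (t : {t : A // t ∉ p}) : Type u := Localization.Away t.1

/-- Flatness at `p` spreads to a neighbourhood. -/
theorem exists_flat_away {B : Type u} [CommRing B] [Algebra A B] [Algebra.FinitePresentation A B]
    (M : Type u) [AddCommGroup M] [Module B M] [Module A M] [IsScalarTower A B M]
    [Module.FinitePresentation B M]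
    (hflat : Module.Flat (Localization.AtPrime p) (LocalizedModule p.primeCompl M)) :
    ∃ t : A, t ∉ p ∧ Module.Flat (Localization.Away t) (Localization.Away t ⊗[A] M) := by
  classical
  let Ap := Localization.AtPrime p
  haveI : Module.Flat Ap (Ap ⊗[A] M) :=
    Module.Flat.of_linearEquiv (LocalizedModule.equivTensorProduct p.primeCompl M).symm
  have hu : ∀ t : {t : A // t ∉ p}, IsUnit (algebraMap A Ap t.1) := fun t =>
    IsLocalization.map_units Ap (⟨t.1, t.2⟩ : p.primeCompl)
  letI inst : ∀ t, Algebra (Stage p t) Ap := fun t => (IsLocalization.Away.lift t.1 (hu t)).toAlgebra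
  haveI : ∀ t, IsScalarTower A (Stage p t) Ap := fun t =>
    IsScalarTower.of_algebraMap_eq fun x => (IsLocalization.Away.lift_eq t.1 (hu t) x).symm
  -- transition maps
  have trans : ∀ (t : {t : A // t ∉ p}) (c : A) (hc : t.1 * c ∉ p),
      ∃ φ : Stage p t →ₐ[A] Stage p ⟨t.1 * c, hc⟩, ∀ x,
        algebraMap (Stage p ⟨t.1 * c, hc⟩) Ap (φ x) = algebraMap (Stage p t) Ap x := by
    intro t c hc
    have hu' : IsUnit (algebraMap A (Stage p ⟨t.1 * c, hc⟩) t.1) := by
      have := IsLocalization.Away.algebraMap_isUnit (S := Stage p ⟨t.1 * c, hc⟩) (t.1 * c)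
      rw [map_mul] at this
      exact isUnit_of_mul_isUnit_left this
    let φ : Stage p t →ₐ[A] Stage p ⟨t.1 * c, hc⟩ :=
      { IsLocalization.Away.lift t.1 hu' with commutes' := IsLocalization.Away.lift_eq t.1 hu' }
    refine ⟨φ, fun x => ?_⟩
    have : ((IsScalarTower.toAlgHom A (Stage p ⟨t.1 * c, hc⟩) Ap).comp φ).toRingHom =
        (algebraMap (Stage p t) Ap) := IsLocalization.ringHom_ext (Submonoid.powers t.1) <| by
      ext a
      show algebraMap _ Ap (φ (algebraMap A (Stage p t) a)) = algebraMap _ Ap (algebraMap A (Stage p t) a)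
      rw [φ.commutes, ← IsScalarTower.algebraMap_apply, ← IsScalarTower.algebraMap_apply]
    exact RingHom.congr_fun this x
  have hmul : ∀ {a b : A}, a ∉ p → b ∉ p → a * b ∉ p := fun ha hb h =>
    (Ideal.IsPrime.mem_or_mem ‹p.IsPrime› h).elim ha hb
  obtain ⟨⟨t, ht⟩, hflat'⟩ := GrothLib.FlatLimit.exists_stage_flat (A₀ := A) (A := Ap) (Stage p)
    (fun i i' => by
      obtain ⟨φ, hφ⟩ := trans i i'.1 (hmul i.2 i'.2)
      obtain ⟨φ', hφ'⟩ := trans i' i.1 (hmul i'.2 i.2)
      let j : {t : A // t ∉ p} := ⟨i.1 * i'.1, hmul i.2 i'.2⟩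
      have hu' : IsUnit (algebraMap A (Stage p j) (i'.1 * i.1)) := by
        rw [mul_comm]; exact IsLocalization.Away.algebraMap_isUnit j.1
      let ψ : Stage p ⟨i'.1 * i.1, hmul i'.2 i.2⟩ →ₐ[A] Stage p j :=
        { IsLocalization.Away.lift (i'.1 * i.1) hu' with commutes' := IsLocalization.Away.lift_eq _ hu' }
      refine ⟨j, φ, ψ.comp φ', hφ, fun x => ?_⟩
      have : ((IsScalarTower.toAlgHom A (Stage p j) Ap).comp ψ).toRingHom =
          algebraMap (Stage p ⟨i'.1 * i.1, hmul i'.2 i.2⟩) Ap :=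
        IsLocalization.ringHom_ext (Submonoid.powers (i'.1 * i.1)) <| by
          ext a
          show algebraMap _ Ap (ψ (algebraMap A (Stage p ⟨i'.1 * i.1, hmul i'.2 i.2⟩) a)) =
            algebraMap _ Ap (algebraMap A (Stage p ⟨i'.1 * i.1, hmul i'.2 i.2⟩) a)
          rw [ψ.commutes, ← IsScalarTower.algebraMap_apply, ← IsScalarTower.algebraMap_apply]
      rw [AlgHom.comp_apply]
      exact (RingHom.congr_fun this (φ' x)).trans (hφ' x))
    (fun T => by
      choose y hy using fun a : Ap => IsLocalization.surj p.primeCompl a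
      let s : A := ∏ a ∈ T, ((y a).2 : A)
      have hs : s ∉ p := (∏ a ∈ T, (y a).2 : p.primeCompl).2 |> fun h => by simpa [s] using h
      refine ⟨⟨s, hs⟩, fun a ha => ?_⟩
      have hdvd : ((y a).2 : A) ∣ s := Finset.dvd_prod_of_mem _ (Finset.mem_coe.1 ha)
      obtain ⟨c, hc⟩ := hdvd
      refine ⟨algebraMap A (Stage p ⟨s, hs⟩) ((y a).1 * c) * IsLocalization.Away.invSelf s, ?_⟩
      apply (hu ⟨s, hs⟩).mul_right_cancel
      rw [map_mul, ← IsScalarTower.algebraMap_apply, mul_assoc,
        IsScalarTower.algebraMap_apply A (Stage p ⟨s, hs⟩) Ap s, ← map_mul, mul_comm (IsLocalization.Away.invSelf s),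
        IsLocalization.Away.mul_invSelf, map_one, mul_one, map_mul, ← hy a, mul_assoc, ← map_mul, ← hc]
      rw [← IsScalarTower.algebraMap_apply])
    (fun i P hP => by
      choose! s hs using fun x (hx : x ∈ P) => (show ∃ s : A, s ∉ p ∧
          algebraMap A (Stage p i) s * x.1 = algebraMap A (Stage p i) s * x.2 by
        obtain ⟨a, n, ha⟩ : ∃ (a : A) (n : ℕ), (x.1 - x.2) * algebraMap A (Stage p i) (i.1 ^ n) =
            algebraMap A (Stage p i) a := by
          obtain ⟨⟨a, ⟨_, n, rfl⟩⟩, ha⟩ := IsLocalization.surj (Submonoid.powers i.1) (x.1 - x.2)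
          exact ⟨a, n, ha⟩
        have h0 : algebraMap A Ap a = 0 := by
          rw [IsScalarTower.algebraMap_apply A (Stage p i) Ap, ← ha, map_mul, map_sub, hP x hx, sub_self,
            zero_mul]
        obtain ⟨s, hs⟩ := (IsLocalization.map_eq_zero_iff p.primeCompl Ap a).1 h0
        refine ⟨s, s.2, ?_⟩
        rw [← sub_eq_zero, ← mul_sub]
        apply ((IsLocalization.Away.algebraMap_isUnit (S := Stage p i) i.1).pow n).mul_left_injective
        show _ * algebraMap A _ i.1 ^ n = 0 * algebraMap A _ i.1 ^ n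
        rw [← map_pow, zero_mul, mul_assoc, ha, ← map_mul, hs, map_zero])
      let u : A := ∏ x ∈ P, s x
      have hu' : u ∉ p := fun h => by
        obtain ⟨x, hx, hm⟩ := (Ideal.IsPrime.prod_mem_iff (hp := ‹p.IsPrime›)).1 h
        exact (hs x hx).1 hm
      obtain ⟨φ, hφ⟩ := trans i u (hmul i.2 hu')
      refine ⟨⟨i.1 * u, hmul i.2 hu'⟩, φ, hφ, fun x hx => ?_⟩
      have h := congrArg φ (hs x hx).2
      rw [map_mul, map_mul, φ.commutes] at h
      refine IsUnit.mul_left_cancel ?_ h
      have h' := IsLocalization.Away.algebraMap_isUnit (S := Stage p ⟨i.1 * u, hmul i.2 hu'⟩) (i.1 * u)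
      obtain ⟨c, hc⟩ := Finset.dvd_prod_of_mem s hx
      have heq : i.1 * u = s x * (i.1 * c) := by
        rw [show u = s x * c from hc]; ring
      rw [show ∀ (f : A →+* Stage p ⟨i.1 * u, hmul i.2 hu'⟩), f (i.1 * u) = f (s x) * f (i.1 * c) from
        fun f => (congrArg f heq).trans (map_mul f _ _)] at h'
      exact isUnit_of_mul_isUnit_left h')
    B M
  exact ⟨t, ht, hflat'⟩

/-- **Freeness near the minimal prime.** -/
theorem exists_free_localization (hp : minimalPrimes A = {p}) {B : Type u} [CommRing B] [Algebra A B]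
    [Algebra.FinitePresentation A B] (M : Type u) [AddCommGroup M] [Module B M] [Module A M]
    [IsScalarTower A B M] [Module.FinitePresentation B M]
    (hflat : Module.Flat (Localization.AtPrime p) (LocalizedModule p.primeCompl M)) :
    ∃ t : A, t ∉ p ∧ Module.Free (Localization.Away t) (LocalizedModule (Submonoid.powers t) M) := by
  classical
  obtain ⟨t₀, ht₀, hfl⟩ := exists_flat_away p (B := B) M hflat
  let A₁ := Localization.Away t₀
  let B₁ := A₁ ⊗[A] B
  letI : Algebra B B₁ := Algebra.TensorProduct.rightAlgebra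
  let M₁ := B₁ ⊗[B] M
  let eM : M₁ ≃ₗ[A₁] A₁ ⊗[A] M := Algebra.IsPushout.cancelBaseChange A A₁ B B₁ M
  haveI : Module.Flat A₁ M₁ := Module.Flat.of_linearEquiv eM
  obtain ⟨l, hl, hfree⟩ := exists_stratification (A := A₁) (B := B₁) M₁
  have hnil : ∀ a ∈ p, IsNilpotent a := fun a ha => by
    rw [← mem_nilradical, nilradical, ← Ideal.sInf_minimalPrimes, Submodule.mem_sInf]
    intro P hP
    have hP' : P ∈ minimalPrimes A := hP
    rw [hp] at hP'
    rw [Set.mem_singleton_iff.1 hP']
    exact ha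
  -- numerators of the elements of the list
  choose num k hnum using fun x : A₁ =>
    (show ∃ (a : A) (k : ℕ), x * algebraMap A A₁ (t₀ ^ k) = algebraMap A A₁ a by
      obtain ⟨⟨a, ⟨_, k, rfl⟩⟩, h⟩ := IsLocalization.surj (Submonoid.powers t₀) x
      exact ⟨a, k, h⟩)
  have hnilA₁ : ∀ x : A₁, num x ∈ p → IsNilpotent x := fun x hx => by
    have h := (hnil _ hx).map (algebraMap A A₁)
    rw [← hnum] at h
    obtain ⟨n, hn⟩ := h
    refine ⟨n, ?_⟩
    rw [mul_pow] at hn
    exact ((((IsLocalization.Away.algebraMap_isUnit (S := A₁) t₀).pow (k x)).pow n)).mul_left_eq_zero.1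
      (by rwa [← map_pow] )
  have hex : ∃ i, ∃ h : i < l.length, num l[i] ∉ p := by
    by_contra hcon
    push Not at hcon
    have h1 : (1 : A₁) ∈ nilradical A₁ := by
      refine (Ideal.span_le.2 fun x hx => ?_) (hl ▸ Submodule.mem_top : (1 : A₁) ∈ Ideal.span {a | a ∈ l})
      obtain ⟨i, hi, rfl⟩ := List.getElem_of_mem hx
      exact mem_nilradical.2 (hnilA₁ _ (hcon i hi))
    obtain ⟨n, hn⟩ := mem_nilradical.1 h1
    rw [one_pow] at hn
    obtain ⟨⟨_, m, rfl⟩, hm⟩ := (IsLocalization.map_eq_zero_iff (Submonoid.powers t₀) A₁ 1).1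
      (by rw [map_one, hn])
    simp only [mul_one] at hm
    exact ht₀ (Ideal.IsPrime.mem_of_pow_mem ‹p.IsPrime› m (hm ▸ p.zero_mem))
  obtain ⟨hi, hnot⟩ := (Nat.find_spec hex)
  let i := Nat.find hex
  let t : A := t₀ * num l[i]
  have htp : t ∉ p := fun h => (Ideal.IsPrime.mem_or_mem ‹p.IsPrime› h).elim ht₀ hnot
  let Rt := Localization.Away t
  have hut : IsUnit (algebraMap A Rt t) := IsLocalization.Away.algebraMap_isUnit t
  simp only [t, map_mul] at hut
  letI : Algebra A₁ Rt := (IsLocalization.Away.lift t₀ (g := algebraMap A Rt)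
    (isUnit_of_mul_isUnit_left hut)).toAlgebra
  haveI : IsScalarTower A A₁ Rt := IsScalarTower.of_algebraMap_eq fun x =>
    (IsLocalization.Away.lift_eq _ _ x).symm
  let J : Ideal Rt := Ideal.span ↑((l.take i).toFinset.image (algebraMap A₁ Rt))
  have hJ : IsNilpotent J := by
    refine (Ideal.FG.isNilpotent_iff_le_nilradical ⟨_, rfl⟩).2 (Ideal.span_le.2 fun x hx => ?_)
    obtain ⟨y, hy, rfl⟩ := Finset.mem_image.1 (Finset.mem_coe.1 hx)
    obtain ⟨j, hj, rfl⟩ := List.getElem_of_mem (List.mem_toFinset.1 hy)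
    rw [List.length_take] at hj
    rw [List.getElem_take]
    have := Nat.find_min hex (m := j) (by omega)
    push Not at this
    exact mem_nilradical.2 ((hnilA₁ _ (this (by omega))).map _)
  haveI : Module.Free (Rt ⧸ J) ((Rt ⧸ J) ⊗[A₁] M₁) := by
    refine hfree i hi (Rt ⧸ J) ?_ fun a ha => ?_
    · have h := congrArg (algebraMap A₁ (Rt ⧸ J)) (hnum l[i])
      rw [map_mul] at h
      refine isUnit_of_mul_isUnit_left (y := algebraMap A₁ (Rt ⧸ J) (algebraMap A A₁ (t₀ ^ k l[i]))) ?_
      rw [h, ← IsScalarTower.algebraMap_apply]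
      show IsUnit (Ideal.Quotient.mk J (algebraMap A Rt (num l[i])))
      exact (isUnit_of_mul_isUnit_right hut).map _
    · have : a ∈ RingHom.ker (algebraMap A₁ (Rt ⧸ J)) := by
        refine (Ideal.span_le.2 fun x hx => ?_) ha
        show algebraMap A₁ (Rt ⧸ J) x = 0
        rw [IsScalarTower.algebraMap_apply A₁ Rt (Rt ⧸ J)]
        exact Ideal.Quotient.eq_zero_iff_mem.2 (Ideal.subset_span (Finset.mem_coe.2
          (Finset.mem_image_of_mem _ (List.mem_toFinset.2 hx))))
      exact this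
  haveI : Module.Free (Rt ⧸ J) ((Rt ⧸ J) ⊗[A₁] (A₁ ⊗[A] M)) :=
    Module.Free.of_equiv (eM.baseChange A₁ (Rt ⧸ J) M₁ (A₁ ⊗[A] M))
  haveI : Module.Free (Rt ⧸ J) ((Rt ⧸ J) ⊗[A] M) := free_cancel A₁ (Rt ⧸ J) M
  haveI : Module.Free (Rt ⧸ J) ((Rt ⧸ J) ⊗[Rt] (Rt ⊗[A] M)) := free_uncancel Rt (Rt ⧸ J) M
  haveI : Module.Flat Rt (Rt ⊗[A] M) :=
    Module.Flat.of_linearEquiv (AlgebraTensorModule.cancelBaseChange A A₁ Rt Rt M).symm
  haveI : Module.Free Rt (Rt ⊗[A] M) := free_of_nilpotent J hJ
  exact ⟨t, htp, Module.Free.of_equiv (LocalizedModule.equivTensorProduct (Submonoid.powers t) M).symm⟩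

end GrothLib.FreeStrat3
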